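import Groth.Agent.CurvSt.K760.Iface
import Mathlib.RingTheory.PolynomialAlgebra
import Mathlib.RingTheory.Flat.FaithfullyFlat.Algebra
import Mathlib.Algebra.Polynomial.FieldDivision
import Mathlib.RingTheory.Flat.TorsionFree

/-!
# Simple covers descend along field extensions
-/

set_option autoImplicit false

universe u

open CategoryTheory CategoryTheory.Limits Polynomial TensorProduct

namespace K950.HurwDesc

open K760.Hurw

/-- The discriminant commutes with base change. -/
theorem discr_baseChange {A B : Type*} [CommRing A] [CommRing B] [Algebra A B] {ι : Type*}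
    [Fintype ι] [DecidableEq ι] (b : Module.Basis ι A B) (K : Type*) [CommRing K] [Algebra A K] :
    Algebra.discr K (b.baseChange K) = algebraMap A K (Algebra.discr A b) := by
  have hfree : Module.Free A B := Module.Free.of_basis b
  have hfin : Module.Finite A B := Module.Finite.of_basis b
  rw [Algebra.discr_def, Algebra.discr_def, RingHom.map_det]
  congr 1
  ext i j
  rw [Algebra.traceMatrix_apply, Algebra.traceForm_apply, RingHom.mapMatrix_apply,
    Matrix.map_apply, Algebra.traceMatrix_apply, Algebra.traceForm_apply,
    Module.Basis.baseChange_apply, Module.Basis.baseChange_apply,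
    Algebra.TensorProduct.tmul_mul_tmul, one_mul, Algebra.trace_apply, Algebra.trace_apply,
    ← LinearMap.trace_baseChange]
  congr 1
  refine TensorProduct.AlgebraTensorModule.ext fun x y => ?_
  simp

/-- Two bases of the same algebra have associated discriminants. -/
theorem discr_basis_assoc {R A ι : Type*} [CommRing R] [CommRing A] [Algebra R A] [Fintype ι] [DecidableEq ι]
    (b b' : Module.Basis ι R A) : Associated (Algebra.discr R b) (Algebra.discr R b') := by
  have h : Algebra.discr R b = (b'.toMatrix b).det ^ 2 * Algebra.discr R b' := by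
    rw [← Algebra.discr_of_matrix_vecMul]
    rw [Module.Basis.toMatrix_map_vecMul]
  have hu : IsUnit (b'.toMatrix b).det := by
    rw [← LinearMap.toMatrix_id_eq_basis_toMatrix b b']
    exact LinearEquiv.isUnit_det (LinearEquiv.refl R A) b b'
  rw [h]
  obtain ⟨w, hw⟩ := hu
  refine ⟨w⁻¹ ^ 2, ?_⟩
  rw [← hw]
  push_cast
  have : (w : R) ^ 2 * (↑w⁻¹ : R) ^ 2 = 1 := by rw [← mul_pow]; simp
  linear_combination Algebra.discr R b' * this

/-- Two bases of the same algebra have associated discriminants. -/
theorem discr_basis_assoc' {R A ι ι' : Type*} [CommRing R] [Nontrivial R] [CommRing A] [Algebra R A] [Fintype ι]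
    [DecidableEq ι] [Fintype ι'] [DecidableEq ι']
    (b : Module.Basis ι R A) (b' : Module.Basis ι' R A) :
    Associated (Algebra.discr R b) (Algebra.discr R b') := by
  rw [← Algebra.discr_reindex R b (b.indexEquiv b')]
  have h := discr_basis_assoc (b.reindex (b.indexEquiv b')) b'
  rwa [Module.Basis.coe_reindex] at h

attribute [local instance] Polynomial.algebra

theorem faithfullyFlat (K L : Type u) [Field K] [Field L] [Algebra K L] : Module.FaithfullyFlat K[X] L[X] := by
  have hp : Algebra.IsPushout K K[X] L L[X] := inferInstance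
  let _ : Module.Free K[X] (K[X] ⊗[K] L) := inferInstance
  exact Module.FaithfullyFlat.of_linearEquiv _ _ hp.out.equiv.symm

theorem isSimp (K L : Type u) [Field K] [Field L] [Algebra K L] {r : ℕ} (b : Fin r → K)
    (B : Type u) [CommRing B] [Algebra K[X] B] [Module.Finite K[X] B] (B' : Type u) [CommRing B'] [Algebra L[X] B']
    (θ : B →+* B')
    (h : IsPushout (CommRingCat.ofHom (Polynomial.mapRingHom (algebraMap K L)))
      (CommRingCat.ofHom (algebraMap K[X] B)) (CommRingCat.ofHom (algebraMap L[X] B')) (CommRingCat.ofHom θ))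
    (hs : IsSimp L (fun i => algebraMap K L (b i)) B') : IsSimp K b B := by
  let _ : Algebra B B' := θ.toAlgebra
  let _ : Algebra K[X] B' := ((algebraMap L[X] B').comp (algebraMap K[X] L[X])).toAlgebra
  have ht1 : IsScalarTower K[X] L[X] B' := IsScalarTower.of_algebraMap_eq' rfl
  have ht2 : IsScalarTower K[X] B B' := IsScalarTower.of_algebraMap_eq' (congrArg (fun t => t.hom) h.w)
  have hp : Algebra.IsPushout K[X] L[X] B B' := CommRingCat.isPushout_iff_isPushout.mp h
  have hff := faithfullyFlat K L
  have hfr' := hs.free
  have hfi' := hs.finite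
  let e : L[X] ⊗[K[X]] B ≃ₐ[L[X]] B' := Algebra.IsPushout.equiv K[X] L[X] B B'
  have hfl : Module.Flat L[X] (L[X] ⊗[K[X]] B) := Module.Flat.of_linearEquiv e.toLinearEquiv
  have hfl' : Module.Flat K[X] B := Module.Flat.of_flat_tensorProduct K[X] B L[X]
  have htf : Module.IsTorsionFree K[X] B := inferInstance
  have hfree : Module.Free K[X] B := Module.free_of_finite_type_torsion_free'
  refine ⟨fun i j hij => hs.inj (congrArg (algebraMap K L) hij), inferInstance, hfree, ?_⟩
  let bB := Module.Free.chooseBasis K[X] B
  let bB' := Module.Free.chooseBasis L[X] B'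
  have h1 := discr_baseChange bB L[X]
  have h2 : Algebra.discr L[X] ((bB.baseChange L[X]).map e.toLinearEquiv) =
      Algebra.discr L[X] (bB.baseChange L[X]) := by
    rw [Algebra.discr_eq_discr_of_algEquiv _ e]
    congr 1
  have h3 := discr_basis_assoc' ((bB.baseChange L[X]).map e.toLinearEquiv) bB'
  rw [h2, h1] at h3
  have h4 : algebraMap K[X] L[X] (Algebra.discr K[X] bB) ∣ ∏ i, (X - C (algebraMap K L (b i))) :=
    h3.dvd.trans hs.disc
  have h5 : (Algebra.discr K[X] bB).map (algebraMap K L) ∣ (∏ i, (X - C (b i))).map (algebraMap K L) := by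
    rw [Polynomial.map_prod]
    simpa using h4
  exact (Polynomial.map_dvd_map' _).1 h5

end K950.HurwDesc
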