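import Groth.Agent.Etcore.NormalEtale
import Groth.Agent.Lefpen.H708.Trdeg
import Mathlib.AlgebraicGeometry.Morphisms.Etale
import Mathlib.RingTheory.Discriminant
import Mathlib.RingTheory.Henselian

/-!
# An étale neighbourhood over a normal domain may be shrunk to an integral one
-/

set_option autoImplicit false

universe u

open CategoryTheory CategoryTheory.Limits AlgebraicGeometry IsLocalRing

namespace K950.HurwDom

theorem exists_domain {P A : Type u} [CommRing P] [IsDomain P] [IsIntegrallyClosed P] [CommRing A] [IsDomain A]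
    [IsLocalRing A] [Algebra P A] (hinj : Function.Injective (algebraMap P A)) {S : Scheme.{u}} [IsAffine S]
    (e : S ⟶ Spec (CommRingCat.of P)) [Etale e] (l : Spec (CommRingCat.of A) ⟶ S)
    (hl : l ≫ e = Spec.map (CommRingCat.ofHom (algebraMap P A))) :
    ∃ (R : Type u) (_ : CommRing R) (_ : IsDomain R) (_ : Algebra P R) (_ : Algebra.Etale P R)
      (v : Spec (CommRingCat.of R) ⟶ S) (l₁ : R →ₐ[P] A),
      v ≫ e = Spec.map (CommRingCat.ofHom (algebraMap P R)) ∧
      Spec.map (CommRingCat.ofHom l₁.toRingHom) ≫ v = l ∧ Function.Injective l₁ := by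
  obtain ⟨a, ha⟩ := Spec.map_surjective (S.isoSpec.inv ≫ e)
  obtain ⟨lam, hlam⟩ := Spec.map_surjective (l ≫ S.isoSpec.hom)
  let _ : Algebra P Γ(S, ⊤) := a.hom.toAlgebra
  have hae : Algebra.Etale P Γ(S, ⊤) := by
    have h1 : Etale (Spec.map a) := by rw [ha]; infer_instance
    rw [HasRingHomProperty.Spec_iff (P := @Etale)] at h1
    exact h1
  have hal : a ≫ lam = CommRingCat.ofHom (algebraMap P A) := by
    apply Spec.map_injective
    rw [Spec.map_comp, ha, hlam, Category.assoc, Iso.hom_inv_id_assoc, hl]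
  have hal' : ∀ x, lam.hom (a.hom x) = algebraMap P A x := fun x => congrArg (fun t => t.hom x) hal
  let p : Ideal Γ(S, ⊤) := (maximalIdeal A).comap lam.hom
  obtain ⟨c, hc1, hc2, hc3, hc4⟩ := Groth.Agent.Etcore.NormalEtale.exists_idempotent_notMem P Γ(S, ⊤) p
  have hcu : IsUnit (lam.hom c) := by
    by_contra h
    exact hc2 ((IsLocalRing.mem_maximalIdeal _).2 h)
  let R := Localization.Away c
  let l₀ : R →+* A := IsLocalization.Away.lift c hcu
  have hl₀ : ∀ x, l₀ (algebraMap Γ(S, ⊤) R x) = lam.hom x := fun x => IsLocalization.Away.lift_eq c hcu x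
  have htow : ∀ x : P, algebraMap P R x = algebraMap Γ(S, ⊤) R (a.hom x) := fun x =>
    IsScalarTower.algebraMap_apply P Γ(S, ⊤) R x
  let l₁ : R →ₐ[P] A :=
    { l₀ with
      commutes' := fun x => by
        change l₀ (algebraMap P R x) = _
        rw [htow, hl₀, hal'] }
  refine ⟨R, inferInstance, hc3, inferInstance, inferInstance,
    Spec.map (CommRingCat.ofHom (algebraMap Γ(S, ⊤) R)) ≫ S.isoSpec.inv, l₁, ?_, ?_, ?_⟩
  · rw [Category.assoc, ← ha, ← Spec.map_comp]
    congr 1
  · rw [← Category.assoc, ← Spec.map_comp]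
    have : CommRingCat.ofHom (algebraMap Γ(S, ⊤) R) ≫ CommRingCat.ofHom l₁.toRingHom = lam := by
      apply CommRingCat.hom_ext
      exact RingHom.ext hl₀
    rw [this, hlam, Category.assoc, Iso.hom_inv_id, Category.comp_id]
  · have := Groth.Agent.Lefpen.H708.Trdeg.isAlgebraic_of_etale P R
    rw [injective_iff_map_eq_zero]
    intro r hr
    by_contra hr0
    obtain ⟨b, hb, t, ht⟩ := (Algebra.IsAlgebraic.isAlgebraic (R := P) r).exists_nonzero_dvd
      (mem_nonZeroDivisors_of_ne_zero hr0)
    apply hb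
    apply hinj
    rw [map_zero, ← l₁.commutes b, ht, map_mul, hr, zero_mul]

end K950.HurwDom
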