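import Groth.Agent.S0506
import Groth.Agent.S0507
import Groth.Agent.S0511
import Groth.Agent.S0515
import Groth.Agent.S12236
import Groth.Agent.Pi1.K154.Spread
import Mathlib.RingTheory.DedekindDomain.Dvr

/-!
# The henselization of the affine line at the point `1`
-/

set_option autoImplicit false

universe u

open Polynomial IsLocalRing

namespace K950.HurwHens

/-- The henselization of a discrete valuation ring is a discrete valuation ring. -/
theorem isDVR (R S : Type u) [CommRing R] [IsDomain R] [IsDiscreteValuationRing R] [CommRing S] [IsDomain S]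
    [IsLocalRing S] [Algebra R S] [IsLocalHom (algebraMap R S)] [Hensel.IsHenselization R S] :
    IsDiscreteValuationRing S := by
  have h1 : IsNoetherianRing S := (Groth.Agent.S0511.result R S).1 inferInstance
  have h2 := Groth.Agent.S0507.result R S
  have h3 : Module.FaithfullyFlat R S := Groth.Agent.Hensel.Lazard.faithfullyFlat_of_isHenselization R S
  have h4 : Function.Injective (algebraMap R S) := FaithfulSMul.algebraMap_injective R S
  obtain ⟨ϖ, hϖ⟩ := IsDiscreteValuationRing.exists_irreducible R
  have h5 : maximalIdeal S = Ideal.span {algebraMap R S ϖ} := by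
    rw [← h2, hϖ.maximalIdeal_eq, Ideal.map_span, Set.image_singleton]
  have h6 : ¬ IsField S := by
    intro hS
    have : maximalIdeal S = ⊥ := (IsLocalRing.isField_iff_maximalIdeal_eq.1 hS)
    rw [h5, Ideal.span_singleton_eq_bot] at this
    exact hϖ.ne_zero (h4 (by rw [this, map_zero]))
  have h7 : Submodule.IsPrincipal (maximalIdeal S) := ⟨⟨algebraMap R S ϖ, h5⟩⟩
  have h8 := IsDiscreteValuationRing.TFAE S h6
  exact (h8.out 0 4).2 h7

theorem exists_hens (k : Type u) [Field k] :
    ∃ (A : Type u) (_ : CommRing A) (_ : IsDomain A) (_ : IsDiscreteValuationRing A) (_ : HenselianLocalRing A)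
      (_ : Algebra k A) (_ : Algebra k[X] A) (_ : IsScalarTower k k[X] A) (ρ : A →ₐ[k] k),
      ρ (algebraMap k[X] A X) = 1 ∧ EtPBC.IsIndEtale k[X] A ∧ Function.Injective (algebraMap k[X] A) := by
  let m : Ideal k[X] := RingHom.ker (evalRingHom (1 : k))
  have hm : m.IsMaximal := RingHom.ker_isMaximal_of_surjective (evalRingHom (1 : k)) fun c => ⟨C c, by simp⟩
  have hm0 : m ≠ ⊥ := by
    intro h
    have : (X - C 1 : k[X]) ∈ m := by simp [m, RingHom.mem_ker]
    rw [h, Ideal.mem_bot] at this
    exact X_sub_C_ne_zero 1 this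
  let P := Localization.AtPrime m
  have hP : IsDiscreteValuationRing P :=
    IsLocalization.AtPrime.isDiscreteValuationRing_of_dedekind_domain k[X] hm0 P
  obtain ⟨S, _, hSl, _, hloc, hens⟩ := Groth.Agent.S0506.result P
  have hhS : HenselianLocalRing S := hens.henselian
  obtain ⟨hSd, -⟩ := (Groth.Agent.S0515.result P S).1 ⟨inferInstance, inferInstance⟩
  have hff : Module.FaithfullyFlat P S := Groth.Agent.Hensel.Lazard.faithfullyFlat_of_isHenselization P S
  let _ : Algebra k[X] S := ((algebraMap P S).comp (algebraMap k[X] P)).toAlgebra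
  have t1 : IsScalarTower k[X] P S := IsScalarTower.of_algebraMap_eq' rfl
  let _ : Algebra k S := ((algebraMap k[X] S).comp (algebraMap k k[X])).toAlgebra
  have t2 : IsScalarTower k k[X] S := IsScalarTower.of_algebraMap_eq' rfl
  -- the point
  have hu : ∀ y : m.primeCompl, IsUnit (evalRingHom (1 : k) y) := fun y => isUnit_iff_ne_zero.2 y.2
  let f : P →+* k := IsLocalization.lift (M := m.primeCompl) hu
  have hf : ∀ p : k[X], f (algebraMap k[X] P p) = eval 1 p := fun p => IsLocalization.lift_eq hu p
  have hfs : Function.Surjective f := fun c => ⟨algebraMap k[X] P (C c), by rw [hf, eval_C]⟩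
  have hfl : IsLocalHom f := Function.Surjective.isLocalHom f hfs
  obtain ⟨g, hg, -⟩ := hens.universal k f hfl
  have hg' : ∀ p : k[X], g (algebraMap k[X] S p) = eval 1 p := fun p => by
    rw [← hf p]
    exact congrArg (fun t => t (algebraMap k[X] P p)) hg
  let ρ : S →ₐ[k] k :=
    { g with
      commutes' := fun c => by
        change g (algebraMap k[X] S (C c)) = c
        rw [hg', eval_C] }
  refine ⟨S, inferInstance, hSd, @isDVR P S _ _ _ _ _ _ _ _ hens, hhS, inferInstance, inferInstance, t2, ρ, ?_, ?_, ?_⟩
  · change g (algebraMap k[X] S X) = 1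
    rw [hg', eval_X]
  · exact Groth.Agent.Proet.IndEtale.isIndEtale_trans k[X] P S
      (K154.Spread.isIndEtale_of_isLocalization m.primeCompl P) (Groth.Agent.S12236.result P S)
  · rw [IsScalarTower.algebraMap_eq k[X] P S]
    exact (FaithfulSMul.algebraMap_injective P S).comp
      (IsLocalization.injective P m.primeCompl_le_nonZeroDivisors)

end K950.HurwHens
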