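import Groth.Agent.S0591
import Groth.Agent.S9187
import Groth.Agent.S9191
import Groth.Agent.Pi1.K154.Spread
import Groth.Agent.Etcore.PullbackSys

/-!
# Spreading out a finite morphism with smooth composition over a limit of étale schemes
-/

set_option autoImplicit false

universe u

open CategoryTheory CategoryTheory.Limits AlgebraicGeometry

namespace K950.HurwSpread

open Groth.Agent Groth.Agent.Sga4h.EtLim

theorem snd_of_factor {P : MorphismProperty Scheme.{u}} [P.IsStableUnderBaseChange] {X₀ Y₀ X₁ Y₁ V : Scheme.{u}}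
    {f₀ : X₀ ⟶ Y₀} {f₁ : X₁ ⟶ Y₁} {pX : X₁ ⟶ X₀} {pY : Y₁ ⟶ Y₀} (h : IsPullback pX f₁ f₀ pY) (hP : P f₁)
    (v : V ⟶ Y₀) (w : V ⟶ Y₁) (hw : w ≫ pY = v) {Z : Scheme.{u}} {a : Z ⟶ X₀} {b : Z ⟶ V}
    (hb : IsPullback a b f₀ v) : P b := by
  have e : a ≫ f₀ = (b ≫ w) ≫ pY := by rw [hb.w, Category.assoc, hw]
  have h1 : IsPullback (h.lift a (b ≫ w) e) b f₁ w := by
    refine IsPullback.of_right (h₁₂ := pX) (v₁₃ := f₀) (h₂₂ := pY) ?_ (h.lift_snd _ _ _) h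
    rw [h.lift_fst, hw]
    exact hb
  exact P.of_isPullback h1 hP

/-- Transfer along a base change `u : S₁ ⟶ S`. -/
theorem bc {X Y Y' S' 𝒳 S S₁ 𝒴₀ 𝒳₀ : Scheme.{u}} {q : Y ⟶ X} {n' : Y' ⟶ Y} {q' : Y' ⟶ S'} {Φ : 𝒳 ⟶ Y'}
    {e : S ⟶ X} {l : S' ⟶ S} {n₀ : 𝒴₀ ⟶ Y} {q₀ : 𝒴₀ ⟶ S} (h₀ : IsPullback n₀ q₀ q e)
    {m₀ : Y' ⟶ 𝒴₀} (hm₀ : m₀ ≫ n₀ = n') (hm₀' : m₀ ≫ q₀ = q' ≫ l) {Φ₀ : 𝒳₀ ⟶ 𝒴₀} {G₀ : 𝒳 ⟶ 𝒳₀}
    [IsFinite Φ₀] (hs : Smooth (Φ₀ ≫ q₀)) (hG₀ : IsPullback G₀ Φ Φ₀ m₀) (v : S₁ ⟶ S) (l₁ : S' ⟶ S₁)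
    (hl : l₁ ≫ v = l) {𝒴 : Scheme.{u}} {n : 𝒴 ⟶ Y} {q₁ : 𝒴 ⟶ S₁} (h : IsPullback n q₁ q (v ≫ e))
    {m : Y' ⟶ 𝒴} (hm : m ≫ n = n') (hm' : m ≫ q₁ = q' ≫ l₁) :
    ∃ (𝒳₁ : Scheme.{u}) (Φ₁ : 𝒳₁ ⟶ 𝒴) (G : 𝒳 ⟶ 𝒳₁), IsFinite Φ₁ ∧ Smooth (Φ₁ ≫ q₁) ∧
      IsPullback G Φ Φ₁ m := by
  let w : 𝒴 ⟶ 𝒴₀ := h₀.lift n (q₁ ≫ v) (by rw [h.w, Category.assoc])
  have hw1 : w ≫ n₀ = n := h₀.lift_fst _ _ _
  have hw2 : w ≫ q₀ = q₁ ≫ v := h₀.lift_snd _ _ _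
  have hw : IsPullback w q₁ q₀ v := IsPullback.of_right (by rw [hw1]; exact h) hw2 h₀
  have hmw : m ≫ w = m₀ := by
    apply h₀.hom_ext
    · rw [Category.assoc, hw1, hm, hm₀]
    · rw [Category.assoc, hw2, reassoc_of% hm', hl, hm₀']
  have hp := IsPullback.of_hasPullback Φ₀ w
  refine ⟨pullback Φ₀ w, pullback.snd Φ₀ w, pullback.lift G₀ (Φ ≫ m) (by rw [hG₀.w, Category.assoc, hmw]),
    inferInstance, ?_, ?_⟩
  · have h3 : IsPullback (pullback.fst Φ₀ w) (pullback.snd Φ₀ w ≫ q₁) (Φ₀ ≫ q₀) v := hp.paste_vert hw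
    exact MorphismProperty.of_isPullback h3 hs
  · refine IsPullback.of_right (h₁₂ := pullback.fst Φ₀ w) (v₁₃ := Φ₀) (h₂₂ := w) ?_ (pullback.lift_snd _ _ _) hp
    rw [pullback.lift_fst, hmw]
    exact hG₀

/-- Spreading out along a limit. -/
theorem core {I : Type u} [SmallCategory I] [IsCofiltered I] [∀ i j : I, Subsingleton (i ⟶ j)]
    {T T' : I ⥤ Scheme.{u}} {c : Cone T} (hc : IsLimit c) {c' : Cone T'} (hc' : IsLimit c')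
    (hTm : ∀ (i j : I) (f : i ⟶ j), IsAffineHom (T.map f)) (hT'm : ∀ (i j : I) (f : i ⟶ j), IsAffineHom (T'.map f))
    (hTc : ∀ i, CompactSpace (T.obj i)) (hTq : ∀ i, QuasiSeparatedSpace (T.obj i))
    (hT'c : ∀ i, CompactSpace (T'.obj i)) (hT'q : ∀ i, QuasiSeparatedSpace (T'.obj i))
    (s : ∀ i, T'.obj i ⟶ T.obj i) (hsl : ∀ i, LocallyOfFinitePresentation (s i))
    (hs : ∀ (i j : I) (f : i ⟶ j), IsPullback (T'.map f) (s i) (s j) (T.map f)) (t : c'.pt ⟶ c.pt)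
    (ht : ∀ i, IsPullback (c'.π.app i) t (s i) (c.π.app i)) {𝒳 : Scheme.{u}} (Φ₁ : 𝒳 ⟶ c'.pt) (hΦf : IsFinite Φ₁)
    (hΦl : LocallyOfFinitePresentation Φ₁) (hΦs : Smooth (Φ₁ ≫ t)) :
    ∃ (j : I) (𝒳₀ : Scheme.{u}) (Φ₀ : 𝒳₀ ⟶ T'.obj j) (G₀ : 𝒳 ⟶ 𝒳₀), IsFinite Φ₀ ∧ Smooth (Φ₀ ≫ s j) ∧
      IsPullback G₀ Φ₁ Φ₀ (c'.π.app j) := by
  obtain ⟨i, Xi, fi, g, hfi1, hfi2, hfi3, hpb⟩ := Groth.Agent.S0591.result T' c' hc' 𝒳 Φ₁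
  have hXc : CompactSpace Xi := QuasiCompact.compactSpace_of_compactSpace fi
  have hXq : QuasiSeparatedSpace Xi := quasiSeparatedSpace_of_quasiSeparated fi
  obtain ⟨i1, φ1, X1, Y1, f1, g1, pY1, pX1, hA1, hB1, hfin⟩ := Groth.Agent.S9187.result T' c' hc' i fi
    (𝟙 (T'.obj i)) Φ₁ (𝟙 c'.pt) (c'.π.app i) g (IsPullback.of_vert_isIso ⟨by simp⟩) hpb
  have hpbs : IsPullback g (Φ₁ ≫ t) (fi ≫ s i) (c.π.app i) := hpb.paste_vert (ht i)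
  have hlf := hsl i
  have hlf' : LocallyOfFinitePresentation (fi ≫ s i) := MorphismProperty.comp_mem _ _ _ hfi1 hlf
  obtain ⟨i2, φ2, X2, Y2, f2, g2, pY2, pX2, hA2, hB2, hsm2⟩ := Groth.Agent.S9191.result T c hc i
    (fi ≫ s i) (𝟙 (T.obj i)) (Φ₁ ≫ t) (𝟙 c.pt) (c.π.app i) g
    (IsPullback.of_vert_isIso ⟨by simp⟩) hpbs
  have : IsIso g1 := hA1.isIso_snd_of_isIso
  have : IsIso g2 := hA2.isIso_snd_of_isIso
  let j : I := IsCofiltered.min i1 i2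
  let a1 : j ⟶ i1 := IsCofiltered.minToLeft i1 i2
  let a2 : j ⟶ i2 := IsCofiltered.minToRight i1 i2
  let ψ : j ⟶ i := a1 ≫ φ1
  have hψ2 : a2 ≫ φ2 = ψ := Subsingleton.elim _ _
  have hp := IsPullback.of_hasPullback fi (T'.map ψ)
  have hw : g ≫ fi = (Φ₁ ≫ c'.π.app j) ≫ T'.map ψ := by rw [hpb.w, Category.assoc, c'.w ψ]
  refine ⟨j, pullback fi (T'.map ψ), pullback.snd fi (T'.map ψ), pullback.lift g (Φ₁ ≫ c'.π.app j) hw, ?_, ?_, ?_⟩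
  · refine snd_of_factor (P := @IsFinite) hB1 hfin (T'.map ψ) (T'.map a1 ≫ inv g1) ?_ hp
    have e1 : pY1 = g1 ≫ T'.map φ1 := by rw [← hA1.w, Category.comp_id]
    rw [e1, Category.assoc, IsIso.inv_hom_id_assoc, ← T'.map_comp]
  · have h5 := hp.paste_vert (hs _ _ ψ)
    refine snd_of_factor (P := @Smooth) hB2 hsm2 (T.map ψ) (T.map a2 ≫ inv g2) ?_ h5
    have e1 : pY2 = g2 ≫ T.map φ2 := by rw [← hA2.w, Category.comp_id]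
    rw [e1, Category.assoc, IsIso.inv_hom_id_assoc, ← T.map_comp, hψ2]
  · refine IsPullback.of_right (h₁₂ := pullback.fst fi (T'.map ψ)) (v₁₃ := fi) (h₂₂ := T'.map ψ) ?_
      (pullback.lift_snd _ _ _) hp
    rw [pullback.lift_fst, c'.w ψ]
    exact hpb

/-- **Spreading out.** -/
theorem exists_spread {X' X : Scheme.{u}} {h : X' ⟶ X} (H : IsEtLim h) {Y Y' : Scheme.{u}} (q : Y ⟶ X)
    [QuasiCompact q] [QuasiSeparated q] [LocallyOfFinitePresentation q] (n' : Y' ⟶ Y) (q' : Y' ⟶ X')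
    (hY : IsPullback n' q' q h)
    {𝒳 : Scheme.{u}} (Φ : 𝒳 ⟶ Y') [IsFinite Φ] [LocallyOfFinitePresentation Φ] (hsm : Smooth (Φ ≫ q')) :
    ∃ (S : Scheme.{u}) (_ : IsAffine S) (e : S ⟶ X) (_ : Etale e) (l : X' ⟶ S), l ≫ e = h ∧
      ∃ (𝒴₀ 𝒳₀ : Scheme.{u}) (n₀ : 𝒴₀ ⟶ Y) (q₀ : 𝒴₀ ⟶ S) (_ : IsPullback n₀ q₀ q e)
        (m₀ : Y' ⟶ 𝒴₀) (_ : m₀ ≫ n₀ = n') (_ : m₀ ≫ q₀ = q' ≫ l) (Φ₀ : 𝒳₀ ⟶ 𝒴₀) (G₀ : 𝒳 ⟶ 𝒳₀),
        IsFinite Φ₀ ∧ Smooth (Φ₀ ≫ q₀) ∧ IsPullback G₀ Φ Φ₀ m₀ := by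
  obtain ⟨ι, _, _, _, D, π, hc, h1, h2, h3⟩ := H
  let T : ιᵒᵖ ⥤ Scheme.{u} := D ⋙ Over.forget X
  let τ : ∀ a : ιᵒᵖ, T.obj a ⟶ X := fun a => (D.obj a).hom
  have hτ : ∀ ⦃a b : ιᵒᵖ⦄ (g : a ⟶ b), T.map g ≫ τ b = τ a := fun a b g => Over.w (D.map g)
  let c : Cone T := Cone.mk X' π
  have haT : ∀ i, IsAffine (T.obj i) := h2
  have hTm : ∀ (i j : ιᵒᵖ) (f : i ⟶ j), IsAffineHom (T.map f) := fun i j f => inferInstance
  have hqc : ∀ i, QuasiCompact (pullback.snd q (τ i)) := fun i =>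
    MorphismProperty.pullback_snd q (τ i) ‹QuasiCompact q›
  have hqs : ∀ i, QuasiSeparated (pullback.snd q (τ i)) := fun i =>
    MorphismProperty.pullback_snd q (τ i) ‹QuasiSeparated q›
  have hcc : ∀ i, CompactSpace ↥(pullback q (τ i)) := fun i =>
    QuasiCompact.compactSpace_of_compactSpace (pullback.snd q (τ i))
  have hcs : ∀ i, QuasiSeparatedSpace ↥(pullback q (τ i)) := fun i =>
    quasiSeparatedSpace_of_quasiSeparated (pullback.snd q (τ i))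
  let Φ₁ : 𝒳 ⟶ pullback q h := Φ ≫ hY.isoPullback.hom
  have hΦf : IsFinite Φ₁ := MorphismProperty.comp_mem _ _ _ ‹IsFinite Φ› inferInstance
  have hΦ1 : LocallyOfFinitePresentation Φ₁ :=
    MorphismProperty.comp_mem _ _ _ ‹LocallyOfFinitePresentation Φ› inferInstance
  have hΦs : Smooth (Φ₁ ≫ pullback.snd q h) := by
    have : Φ₁ ≫ pullback.snd q h = Φ ≫ q' := by
      simp only [Φ₁, Category.assoc, IsPullback.isoPullback_hom_snd]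
    rw [this]
    exact hsm
  obtain ⟨j, 𝒳₀, Φ₀, G₀, hf, hs, hpb⟩ := core (T := T) (T' := Etcore.PullbackSys.sys T τ hτ q) (c := c) hc
    (c' := Etcore.PullbackSys.cone T τ hτ q c h h3) (Etcore.PullbackSys.isLimitCone T τ hτ q c h h3 hc)
    hTm (fun i j f => MorphismProperty.of_isPullback (P := @IsAffineHom)
      (Etcore.PullbackSys.isPullback_mapp T τ hτ q f).flip (hTm i j f)) inferInstance inferInstance
    hcc hcs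
    (fun i => pullback.snd q (τ i)) (fun i => MorphismProperty.pullback_snd q (τ i) ‹LocallyOfFinitePresentation q›)
    (fun i j f => Etcore.PullbackSys.isPullback_mapp T τ hτ q f)
    (pullback.snd q h) (fun i => Etcore.PullbackSys.isPullback_proj T τ q c h h3 i) Φ₁ hΦf hΦ1 hΦs
  have hpb' : IsPullback G₀ Φ₁ Φ₀ (Etcore.PullbackSys.proj T τ q c h h3 j) := hpb
  refine ⟨T.obj j, haT j, τ j, h1 j, c.π.app j, h3 j, pullback q (τ j), 𝒳₀, pullback.fst q (τ j),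
    pullback.snd q (τ j), IsPullback.of_hasPullback _ _,
    hY.isoPullback.hom ≫ Etcore.PullbackSys.proj T τ q c h h3 j, ?_, ?_, Φ₀, G₀, hf, hs, ?_⟩
  · rw [Category.assoc, Etcore.PullbackSys.proj_fst, IsPullback.isoPullback_hom_fst]
  · rw [Category.assoc, Etcore.PullbackSys.proj_snd, IsPullback.isoPullback_hom_snd_assoc]
  · exact hpb'.of_iso (Iso.refl _) (Iso.refl _) (hY.isoPullback.symm) (Iso.refl _) (by simp) (by simp [Φ₁])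
      (by simp) (by simp)

end K950.HurwSpread
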