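import Groth.Agent.CurvSt.K950.HurwLift
import Groth.Agent.CurvSt.K950.HurwHens
import Groth.Agent.CurvSt.K950.HurwSpread
import Groth.Agent.CurvSt.K950.HurwDom
import Groth.Agent.CurvSt.K950.HurwDesc
import Groth.Agent.Ega43.FPOfComp

/-!
# Simple covers deform over an étale neighbourhood of `τ = 1` in the `τ`-line (node T1 of the plan of S16736)
-/

set_option autoImplicit false

universe u

open CategoryTheory CategoryTheory.Limits AlgebraicGeometry Polynomial IsLocalRing

namespace K950.HurwT1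

open K760.Hurw K950.HurwRing K950.HurwLift Groth.Agent Groth.Agent.Sga4h.EtLim

theorem hom_ext {R : Type u} [CommRing R] {Z : Scheme.{u}} (f g : CohB1.ProjSpace 1 R ⟶ Z)
    (h0 : v0 R ≫ f = v0 R ≫ g) (h1 : v1 R ≫ f = v1 R ≫ g) : f = g := by
  let j : Bool → (Spec (CommRingCat.of R[X]) ⟶ CohB1.ProjSpace 1 R) := fun t => if t then v0 R else v1 R
  have hj : ∀ t, IsOpenImmersion (j t) := by
    intro t
    cases t
    · exact inferInstanceAs (IsOpenImmersion (v1 R))
    · exact inferInstanceAs (IsOpenImmersion (v0 R))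
  let 𝒰 : (CohB1.ProjSpace 1 R).OpenCover := Scheme.Cover.mkOfCovers Bool (fun _ => Spec (CommRingCat.of R[X])) j
    (fun x => by
      rcases exists_v R x with ⟨y, hy⟩ | ⟨y, hy⟩
      · exact ⟨true, y, hy⟩
      · exact ⟨false, y, hy⟩) hj
  refine 𝒰.hom_ext _ _ fun t => ?_
  cases t
  · exact h1
  · exact h0

theorem main (hP : P1BCStmt.{u}) (hL : LiftStmt.{u}) : T1Stmt.{u} := by
  intro k _ _ _ X₁ q _ _ _ hX F r b hFq hF
  obtain ⟨A, _, _, _, _, _, _, _, ρ, hρ, hind, hinj⟩ := K950.HurwHens.exists_hens k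
  let β : Fin r → A := fun i => algebraMap k A (b i) * algebraMap k[X] A X ^ (i.1 + 1)
  have hβ : ∀ i, ρ (β i) = b i := fun i => by
    simp only [β, map_mul, map_pow, hρ, one_pow, mul_one]
    exact ρ.commutes _
  obtain ⟨𝒳, Q, i, Φ, hΦf, hΦQ, hQs, hi, hgen⟩ := hL k X₁ q hX F r b hFq hF A ρ β hβ
  subst hΦQ
  -- spreading out
  have H : IsEtLim (Spec.map (CommRingCat.ofHom (algebraMap k[X] A))) := by
    have := isEtLim_of_isIndEtale hind (𝟙 _)
    rwa [Category.comp_id] at this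
  obtain ⟨n', hn1, hn2, hn3⟩ := hP k[X] A (algebraMap k[X] A)
  have htp : ∀ (R : Type u) [CommRing R], IsProper (CohB1.ProjSpace.toSpec 1 R) := fun R _ =>
    Groth.Agent.Ega3B.ProjProper.isProper_toSpec 1 R
  have htsm : ∀ (R : Type u) [CommRing R], Smooth (CohB1.ProjSpace.toSpec 1 R) := fun R _ =>
    have : SmoothOfRelativeDimension 1 (CohB1.ProjSpace.toSpec 1 R) :=
      Groth.Agent.Sga5.ProjSmooth.smooth_toSpec 1 R
    SmoothOfRelativeDimension.smooth 1 _
  have htp1 := htp k[X]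
  have htp2 := htp A
  have htsm1 := htsm k[X]
  have hfp : LocallyOfFinitePresentation Φ := by
    have : LocallyOfFinitePresentation (Φ ≫ CohB1.ProjSpace.toSpec 1 A) := inferInstance
    exact Groth.Agent.Ega43.FPOfComp.locallyOfFinitePresentation_of_comp Φ (CohB1.ProjSpace.toSpec 1 A)
  obtain ⟨S, hSa, e, he, l, hle, 𝒴₀, 𝒳₀, n₀, q₀, h₀, m₀, hm₀, hm₀', Φ₀, G₀, hΦ₀f, hΦ₀s, hG₀⟩ :=
    K950.HurwSpread.exists_spread H (CohB1.ProjSpace.toSpec 1 k[X]) n' _ hn1 Φ hQs
  obtain ⟨R, _, _, _, hRe, v, l₁, hve, hlv, hl₁⟩ := K950.HurwDom.exists_domain hinj e l hle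
  obtain ⟨n, hn, hn0, hn1'⟩ := hP k[X] R (algebraMap k[X] R)
  obtain ⟨m, hm1, hm2, hm3⟩ := hP R A l₁.toRingHom
  have hcomp : ∀ (φ : k[X] →+* R) (ψ : R →+* A) (χ : k[X] →+* A), ψ.comp φ = χ →
      Spec.map (CommRingCat.ofHom (Polynomial.mapRingHom ψ)) ≫ Spec.map (CommRingCat.ofHom (Polynomial.mapRingHom φ)) =
        Spec.map (CommRingCat.ofHom (Polynomial.mapRingHom χ)) := by
    rintro φ ψ _ rfl
    rw [← Spec.map_comp, ← CommRingCat.ofHom_comp, Polynomial.mapRingHom_comp]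
  have hl₁' : l₁.toRingHom.comp (algebraMap k[X] R) = algebraMap k[X] A := RingHom.ext l₁.commutes
  have hmn : m ≫ n = n' := by
    refine hom_ext _ _ ?_ ?_
    · rw [← reassoc_of% hm2.w, ← hn0.w, ← hn2.w, ← Category.assoc, hcomp _ _ _ hl₁']
    · rw [← reassoc_of% hm3.w, ← hn1'.w, ← hn3.w, ← Category.assoc, hcomp _ _ _ hl₁']
  obtain ⟨𝒳₁, Φ₁, G, hΦ₁f, hΦ₁s, hG⟩ := K950.HurwSpread.bc h₀ hm₀ hm₀' hΦ₀s hG₀ v
    (Spec.map (CommRingCat.ofHom l₁.toRingHom)) hlv (by rw [hve]; exact hn) hmn hm1.w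
  let _ : Algebra k R := ((algebraMap k[X] R).comp Polynomial.C).toAlgebra
  have hkR : IsScalarTower k k[X] R := IsScalarTower.of_algebraMap_eq' rfl
  let ρR : R →ₐ[k] k := ρ.comp (l₁.restrictScalars k)
  refine ⟨R, inferInstance, inferInstance, inferInstance, inferInstance, inferInstance, inferInstance, ρR,
    𝒳₁, Φ₁ ≫ CohB1.ProjSpace.toSpec 1 R, i ≫ G, Φ₁, hΦ₁f, rfl, hΦ₁s, ?_, ?_⟩
  · have h1 := hi.paste_horiz (hG.paste_vert hm1)
    rw [← Spec.map_comp, ← CommRingCat.ofHom_comp] at h1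
    exact h1
  intro K _ _ _ B _ _ j hj
  let L := FractionRing A
  have hinjL : Function.Injective ((algebraMap A L).comp l₁.toRingHom) :=
    (IsFractionRing.injective A L).comp hl₁
  let φ : K →+* L := IsFractionRing.lift hinjL
  let _ : Algebra K L := φ.toAlgebra
  have hφ : ∀ x : R, algebraMap K L (algebraMap R K x) = algebraMap A L (l₁ x) := fun x =>
    IsFractionRing.lift_algebraMap hinjL x
  -- the base change of `B` to `L[X]`
  let _ : Algebra K[X] L[X] := (Polynomial.mapRingHom (algebraMap K L)).toAlgebra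
  have hpo := CommRingCat.isPushout_tensorProduct K[X] L[X] B
  have hfin : Module.Finite K[X] B := by
    have : IsFinite (Spec.map (CommRingCat.ofHom (algebraMap K[X] B))) := MorphismProperty.of_isPullback hj hΦ₁f
    have := (IsFinite.SpecMap_iff (f := CommRingCat.ofHom (algebraMap K[X] B))).1 this
    exact RingHom.finite_algebraMap.1 this
  refine K950.HurwDesc.isSimp K L _ B _ _ hpo ?_
  have hβL : (fun i => algebraMap K L (algebraMap R K (algebraMap k R (b i) * algebraMap k[X] R X ^ (i.1 + 1)))) =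
      fun i => algebraMap A L (β i) := by
    funext i
    rw [hφ, map_mul, map_pow, l₁.commutes]
    congr 2
    have := l₁.commutes (Polynomial.C (b i))
    rw [← Polynomial.algebraMap_eq, ← IsScalarTower.algebraMap_apply, ← IsScalarTower.algebraMap_apply] at this
    exact this
  rw [hβL]
  have e3 : Spec.map (CommRingCat.ofHom (algebraMap K[X] L[X])) ≫
      Spec.map (CommRingCat.ofHom (Polynomial.mapRingHom (algebraMap R K))) ≫ v0 R =
      (Spec.map (CommRingCat.ofHom (Polynomial.mapRingHom (algebraMap A L))) ≫ v0 A) ≫ m := by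
    rw [Category.assoc, ← hm2.w, ← Category.assoc, ← Category.assoc, ← Spec.map_comp, ← Spec.map_comp,
      ← CommRingCat.ofHom_comp, ← CommRingCat.ofHom_comp, Polynomial.mapRingHom_comp]
    congr 3
    change (Polynomial.mapRingHom (algebraMap K L)).comp _ = _
    rw [Polynomial.mapRingHom_comp]
    congr 1
    exact RingHom.ext hφ
  have h5 := (isPullback_SpecMap_of_isPushout _ _ _ _ hpo).flip.paste_horiz hj
  rw [e3] at h5
  have h6 : IsPullback (hG.lift _ _ (h5.w.trans (Category.assoc _ _ _).symm)) _ _ _ :=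
    IsPullback.of_right (by rw [hG.lift_fst]; exact h5) (hG.lift_snd _ _ _) hG
  exact hgen L _ _ h6

end K950.HurwT1
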