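import Groth.Agent.CurvSt.K760.Iface
import Groth.Agent.S14457
import Groth.Agent.S0115
import Groth.Agent.S1180
import Groth.Agent.Models.SpecFib

/-!
# Rings with an involution and an anti-invariant unit; charts of a quotient by an involution
-/

set_option autoImplicit false

universe u

open CategoryTheory CategoryTheory.Limits AlgebraicGeometry Polynomial IsLocalRing

namespace K950.HurwRing

open K760.Hurw

theorem isPushout_of_spec {A B A' B' : CommRingCat.{u}} {φ : A ⟶ B} {τ : A ⟶ A'} {σ : B ⟶ B'}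
    {φ' : A' ⟶ B'} (hs : IsPullback (Spec.map σ) (Spec.map φ') (Spec.map φ) (Spec.map τ)) :
    IsPushout φ τ σ φ' := by
  have hpb : IsPullback (Scheme.Spec.map σ.op) (Scheme.Spec.map φ'.op) (Scheme.Spec.map φ.op)
    (Scheme.Spec.map τ.op) := hs
  have w : σ.op ≫ φ.op = φ'.op ≫ τ.op := by
    apply Scheme.Spec.map_injective
    rw [Functor.map_comp, Functor.map_comp]
    exact hs.w
  exact (IsPullback.of_map Scheme.Spec w hpb).unop.flip

theorem etale_of_smooth_of_unramified {X Y : Scheme.{u}} (g : X ⟶ Y) [h1 : Smooth g]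
    [h2 : FormallyUnramified g] : Etale g := by
  rw [HasRingHomProperty.iff_appLE (P := @Etale)]
  intro U V e
  rw [RingHom.etale_iff_formallyUnramified_and_smooth]
  exact ⟨HasRingHomProperty.appLE (P := @FormallyUnramified) g h2 U V e,
    HasRingHomProperty.appLE (P := @Smooth) g h1 U V e⟩

/-- Étaleness is étale local on the source. -/
theorem etale_of_comp {X Y Z : Scheme.{u}} (f : X ⟶ Y) (g : Y ⟶ Z) (hf : Etale f) (hf' : Surjective f)
    (h : Etale (f ≫ g)) : Etale g := by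
  have h1 : Smooth (f ≫ g) := inferInstance
  have h2 : Smooth g := Groth.Agent.S0115.result f g
  obtain ⟨h3, h4⟩ := Groth.Agent.S1180.result f g
  exact etale_of_smooth_of_unramified g

section ring

variable {R₀ D : Type u} [CommRing R₀] [CommRing D] (h : R₀ →+* D) (hinj : Function.Injective h)
  (s : D →+* D) (hfix : ∀ d, d ∈ Set.range h ↔ s d = d) (hs : ∀ d, s (s d) = d)

include hfix hs in
theorem isIntegral : h.IsIntegral := by
  intro d
  obtain ⟨a, ha⟩ := (hfix (d + s d)).2 (by rw [map_add, hs, add_comm])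
  obtain ⟨b, hb⟩ := (hfix (d * s d)).2 (by rw [map_mul, hs, mul_comm])
  refine ⟨X ^ 2 - C a * X + C b, ?_, ?_⟩
  · monicity!
  · simp only [eval₂_add, eval₂_sub, eval₂_pow, eval₂_X, eval₂_mul, eval₂_C, ha, hb]
    ring

include hfix hinj in
/-- A quadratic extension by invariants of an involution with an anti-invariant unit is étale and
surjective on spectra. -/
theorem etale (h2 : IsUnit (2 : R₀)) (hs : ∀ d, s (s d) = d) (y : D) (hy : IsUnit y) (hsy : s y = -y) : h.Etale := by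
  obtain ⟨c, hc⟩ := (hfix (y ^ 2)).2 (by rw [map_pow, hsy, neg_sq])
  have hcu : IsUnit c := by
    obtain ⟨y', hy'⟩ := hy.exists_right_inv
    have hsy' : s (y' ^ 2) = y' ^ 2 := by
      have e1 : s y * s y' = 1 := by rw [← map_mul, hy', map_one]
      have e2 : s y' = - y' := by
        have : y * (s y' + y') = 0 := by
          rw [hsy] at e1
          linear_combination hy' - e1
        have := (hy.mul_right_eq_zero).1 this
        exact eq_neg_of_add_eq_zero_left this
      rw [map_pow, e2, neg_sq]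
    obtain ⟨c', hc'⟩ := (hfix (y' ^ 2)).2 hsy'
    refine IsUnit.of_mul_eq_one c' (hinj ?_)
    rw [map_mul, hc, hc', map_one, ← mul_pow, hy', one_pow]
  let φ : AdjoinRoot (X ^ 2 - C c : R₀[X]) →+* D := AdjoinRoot.lift h y (by simp [hc])
  have hφ1 : ∀ a, φ (AdjoinRoot.of _ a) = h a := fun a => AdjoinRoot.lift_of _
  have hφ2 : φ (AdjoinRoot.root _) = y := AdjoinRoot.lift_root _
  have hmon : (X ^ 2 - C c : R₀[X]).Monic := monic_X_pow_sub_C c two_ne_zero
  have hform : ∀ z : AdjoinRoot (X ^ 2 - C c : R₀[X]), ∃ a b : R₀,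
      z = AdjoinRoot.of _ a + AdjoinRoot.of _ b * AdjoinRoot.root _ := by
    intro z
    obtain ⟨p, rfl⟩ := AdjoinRoot.mk_surjective z
    rcases subsingleton_or_nontrivial R₀ with hR | hR
    · exact ⟨0, 0, by
        have : (1 : AdjoinRoot (X ^ 2 - C c : R₀[X])) = 0 := by
          rw [← map_one (AdjoinRoot.of (X ^ 2 - C c : R₀[X])), Subsingleton.elim (1 : R₀) 0, map_zero]
        rw [← mul_one (AdjoinRoot.mk (X ^ 2 - C c) p), this]
        simp⟩
    have hd : (p %ₘ (X ^ 2 - C c)).natDegree < 2 := by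
      have := natDegree_modByMonic_lt p hmon (by
        intro h1
        have := congrArg Polynomial.natDegree h1
        rw [natDegree_X_pow_sub_C, natDegree_one] at this
        omega)
      rwa [natDegree_X_pow_sub_C] at this
    refine ⟨(p %ₘ (X ^ 2 - C c)).coeff 0, (p %ₘ (X ^ 2 - C c)).coeff 1, ?_⟩
    have h3 : AdjoinRoot.mk (X ^ 2 - C c) p = AdjoinRoot.mk (X ^ 2 - C c) (p %ₘ (X ^ 2 - C c)) := by
      rw [AdjoinRoot.mk_eq_mk]
      exact ⟨p /ₘ (X ^ 2 - C c), by
        have := modByMonic_add_div p (X ^ 2 - C c)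
        linear_combination -this⟩
    rw [h3]
    conv_lhs => rw [(p %ₘ (X ^ 2 - C c)).as_sum_range' 2 hd]
    rw [Finset.sum_range_succ, Finset.sum_range_one, map_add, ← C_mul_X_pow_eq_monomial,
      ← C_mul_X_pow_eq_monomial, map_mul, map_mul, AdjoinRoot.mk_C, AdjoinRoot.mk_C, pow_zero, pow_one, map_one,
      mul_one, AdjoinRoot.mk_X]
  have hbij : Function.Bijective φ := by
    constructor
    · rw [injective_iff_map_eq_zero]
      intro z hz
      obtain ⟨a, b, rfl⟩ := hform z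
      rw [map_add, map_mul, hφ1, hφ1, hφ2] at hz
      have hsa : s (h a) = h a := (hfix _).1 ⟨a, rfl⟩
      have hsb : s (h b) = h b := (hfix _).1 ⟨b, rfl⟩
      have hz' : h a - h b * y = 0 := by
        have := congrArg s hz
        rw [map_add, map_mul, hsa, hsb, hsy, map_zero] at this
        linear_combination this
      have ha : a = 0 := by
        have e : h (2 * a) = h 0 := by
          rw [map_mul, map_ofNat, map_zero]
          linear_combination hz + hz'
        exact (h2.mul_right_eq_zero).1 (hinj e)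
      subst ha
      have hb : b = 0 := by
        rw [map_zero, zero_add] at hz
        have := (hy.mul_left_eq_zero).1 hz
        exact hinj (by rw [this, map_zero])
      subst hb
      simp
    · intro d
      obtain ⟨a, ha⟩ := (hfix (d + s d)).2 (by rw [map_add, hs, add_comm])
      obtain ⟨b, hb⟩ := (hfix ((d - s d) * y)).2 (by rw [map_mul, map_sub, hs, hsy]; ring)
      obtain ⟨t, ht⟩ := h2.exists_left_inv
      obtain ⟨c', hc'⟩ := hcu.exists_left_inv
      refine ⟨AdjoinRoot.of _ (t * a) + AdjoinRoot.of _ (t * b * c') * AdjoinRoot.root _, ?_⟩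
      have ht' : h t * 2 = 1 := by rw [← map_ofNat h, ← map_mul, ht, map_one]
      have hc'' : h c' * y ^ 2 = 1 := by rw [← hc, ← map_mul, hc', map_one]
      rw [map_add φ, map_mul φ, hφ1, hφ1, hφ2, map_mul, map_mul, map_mul, ha, hb]
      linear_combination (h t * (d - s d)) * hc'' + d * ht'
  have he : Algebra.Etale R₀ (AdjoinRoot (X ^ 2 - C c : R₀[X])) :=
    (Groth.Agent.S14457.result R₀ c 2 one_le_two).2 (Or.inr (by
      rw [Nat.cast_ofNat]
      exact h2.mul hcu))
  have hcomp : h = φ.comp (AdjoinRoot.of _) := RingHom.ext fun a => (hφ1 a).symm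
  rw [hcomp]
  exact RingHom.Etale.stableUnderComposition _ _ ((RingHom.etale_algebraMap (R := R₀)
    (S := AdjoinRoot (X ^ 2 - C c : R₀[X]))).2 he) (RingHom.Etale.of_bijective hbij)

end ring


/-! ## Charts -/

/-- The chart of an affine morphism over an affine chart of the target. -/
theorem exists_chart {W X : Scheme.{u}} (g : W ⟶ X) [IsAffineHom g] {C : CommRingCat.{u}} (c : Spec C ⟶ X) :
    ∃ (D : CommRingCat.{u}) (h : C ⟶ D) (d : Spec D ⟶ W), IsPullback d (Spec.map h) g c := by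
  have : IsAffine (pullback g c) := isAffine_of_isAffineHom (pullback.snd g c)
  let e := (pullback g c).isoSpec
  obtain ⟨h, hh⟩ := Spec.map_surjective (e.inv ≫ pullback.snd g c)
  refine ⟨_, h, e.inv ≫ pullback.fst g c, ?_⟩
  rw [hh]
  exact (IsPullback.of_hasPullback g c).of_iso (e : _ ≅ _) (Iso.refl _) (Iso.refl _) (Iso.refl _)
    (by simp [e]) (by simp [e]) (by simp) (by simp)

/-- The quotient by an involution in a chart. -/
theorem chart {W X : Scheme.{u}} {s : W ⟶ W} {g : W ⟶ X} (hq : IsInvQuot s g) {C D : CommRingCat.{u}}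
    (c : Spec C ⟶ X) [IsOpenImmersion c] (h : C ⟶ D) (d : Spec D ⟶ W)
    (hp : IsPullback d (Spec.map h) g c) :
    ∃ sD : D ⟶ D, Spec.map sD ≫ d = d ≫ s ∧ (∀ x, sD.hom (sD.hom x) = x) ∧
      Function.Injective h.hom ∧ ∀ t : D, t ∈ Set.range h.hom ↔ sD.hom t = t := by
  have hd : IsOpenImmersion d := MorphismProperty.of_isPullback hp.flip inferInstance
  have hw1 : (d ≫ s) ≫ g = Spec.map h ≫ c := by rw [Category.assoc, hq.over, hp.w]
  obtain ⟨sD, hsD⟩ := Spec.map_surjective (hp.lift (d ≫ s) (Spec.map h) hw1)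
  have h1 : Spec.map sD ≫ d = d ≫ s := by rw [hsD, hp.lift_fst]
  have h2 : Spec.map sD ≫ Spec.map h = Spec.map h := by rw [hsD, hp.lift_snd]
  have h3 : sD ≫ sD = 𝟙 D := by
    apply Spec.map_injective
    rw [Spec.map_comp, Spec.map_id]
    rw [← cancel_mono d, Category.assoc, h1, reassoc_of% h1, hq.invol, Category.comp_id, Category.id_comp]
  refine ⟨sD, h1, fun x => congrArg (fun f => f.hom x) h3, ?_⟩
  -- the open `U`
  have hU : d.opensRange = g ⁻¹ᵁ c.opensRange := by
    ext x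
    have e1 : d = hp.isoPullback.hom ≫ pullback.fst g c := (hp.isoPullback_hom_fst).symm
    change x ∈ Set.range d ↔ g x ∈ Set.range c
    constructor
    · rintro ⟨y, rfl⟩
      exact ⟨(Spec.map h) y, by
        rw [← Scheme.Hom.comp_apply, ← Scheme.Hom.comp_apply, hp.w]⟩
    · intro hx
      have hx' : x ∈ Set.range (pullback.fst g c) := by
        rw [Scheme.Pullback.range_fst]
        exact hx
      obtain ⟨y, hy⟩ := hx'
      refine ⟨hp.isoPullback.inv y, ?_⟩
      rw [← Scheme.Hom.comp_apply, hp.isoPullback_inv_fst, hy]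
  set U := c.opensRange with hUdef
  have hcU : (⊤ : (Spec C).Opens) ≤ c ⁻¹ᵁ U := fun x _ => ⟨x, rfl⟩
  have hdU : (⊤ : (Spec D).Opens) ≤ d ⁻¹ᵁ (g ⁻¹ᵁ U) := fun x _ => by
    change d x ∈ g ⁻¹ᵁ U
    rw [← hU]
    exact ⟨x, rfl⟩
  have hisoc : IsIso (c.appLE U ⊤ hcU) := by
    have := c.isIso_app U le_rfl
    have e : c ⁻¹ᵁ U = ⊤ := top_le_iff.1 hcU
    rw [Scheme.Hom.appLE]
    have : IsIso ((homOfLE hcU : (⊤ : (Spec C).Opens) ⟶ c ⁻¹ᵁ U)) :=
      ⟨⟨homOfLE e.le, Subsingleton.elim _ _, Subsingleton.elim _ _⟩⟩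
    infer_instance
  have hisod : IsIso (d.appLE (g ⁻¹ᵁ U) ⊤ hdU) := by
    have := d.isIso_app (g ⁻¹ᵁ U) hU.ge
    have e : d ⁻¹ᵁ (g ⁻¹ᵁ U) = ⊤ := top_le_iff.1 hdU
    rw [Scheme.Hom.appLE]
    have : IsIso ((homOfLE hdU : (⊤ : (Spec D).Opens) ⟶ d ⁻¹ᵁ (g ⁻¹ᵁ U))) :=
      ⟨⟨homOfLE e.le, Subsingleton.elim _ _, Subsingleton.elim _ _⟩⟩
    infer_instance
  let α : Γ(X, U) ⟶ C := c.appLE U ⊤ hcU ≫ (Scheme.ΓSpecIso C).hom
  let β : Γ(W, g ⁻¹ᵁ U) ⟶ D := d.appLE (g ⁻¹ᵁ U) ⊤ hdU ≫ (Scheme.ΓSpecIso D).hom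
  have hα : Function.Bijective α.hom := ConcreteCategory.bijective_of_isIso α
  have hβ : Function.Bijective β.hom := ConcreteCategory.bijective_of_isIso β
  have r1 : g.app U ≫ β = α ≫ h := by
    dsimp only [α, β]
    rw [Category.assoc, ← Scheme.ΓSpecIso_naturality, ← Scheme.Hom.comp_appLE_assoc]
    have : (d ≫ g).appLE U ⊤ hdU = (Spec.map h ≫ c).appLE U ⊤ (by rw [← hp.w]; exact hdU) := by
      congr 1
      exact hp.w
    rw [this, ← Scheme.Hom.appLE_comp_appLE (Spec.map h) c U ⊤ ⊤ hcU (by intro x _; trivial),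
      Category.assoc]
    rfl
  have hs1 : g ⁻¹ᵁ U ≤ s ⁻¹ᵁ (g ⁻¹ᵁ U) := by rw [← Scheme.Hom.comp_preimage, hq.over]
  have r2 : s.appLE (g ⁻¹ᵁ U) (g ⁻¹ᵁ U) hs1 ≫ β = β ≫ sD := by
    dsimp only [β]
    rw [Category.assoc, ← Scheme.ΓSpecIso_naturality, ← Category.assoc, Scheme.Hom.appLE_comp_appLE]
    have : (d ≫ s).appLE (g ⁻¹ᵁ U) ⊤ (by
        intro x hx
        exact hs1 (hdU hx)) = (Spec.map sD ≫ d).appLE (g ⁻¹ᵁ U) ⊤ (by
        rw [h1]
        intro x hx
        exact hs1 (hdU hx)) := by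
      congr 1
      exact h1.symm
    rw [this, ← Scheme.Hom.appLE_comp_appLE (Spec.map sD) d (g ⁻¹ᵁ U) ⊤ ⊤ hdU (by intro x _; trivial),
      Category.assoc]
    rfl
  have r1' : ∀ x, β.hom ((g.app U).hom x) = h.hom (α.hom x) := fun x => congrArg (fun f => f.hom x) r1
  have r2' : ∀ x, β.hom ((s.appLE (g ⁻¹ᵁ U) (g ⁻¹ᵁ U) hs1).hom x) = sD.hom (β.hom x) :=
    fun x => congrArg (fun f => f.hom x) r2
  constructor
  · intro x y hxy
    obtain ⟨x, rfl⟩ := hα.2 x
    obtain ⟨y, rfl⟩ := hα.2 y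
    rw [← r1', ← r1'] at hxy
    rw [hq.inj U (hβ.1 hxy)]
  · intro t
    obtain ⟨t, rfl⟩ := hβ.2 t
    rw [← r2']
    rw [hβ.1.eq_iff, ← hq.range_iff U t]
    constructor
    · rintro ⟨x, hx⟩
      obtain ⟨x, rfl⟩ := hα.2 x
      rw [← r1'] at hx
      exact ⟨x, hβ.1 hx⟩
    · rintro ⟨x, rfl⟩
      exact ⟨α.hom x, (r1' x).symm⟩

end K950.HurwRing
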