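import Groth.Agent.CurvSt.K950.HurwRing
import Mathlib.RingTheory.Etale.StandardEtale

/-!
# The quotient of an étale cover of a double cover by an involution is étale off the branch locus, and flat
-/

set_option autoImplicit false

universe u

open CategoryTheory CategoryTheory.Limits AlgebraicGeometry Polynomial IsLocalRing

namespace K950.HurwEt

open K760.Hurw K950.HurwRing

theorem etale_away {A : Type u} [CommRing A] (s : A) (heu : IsUnit (2 : A)) :
    Algebra.Etale A (Localization.Away (AdjoinRoot.root (X ^ 2 - C s))) := by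
  let P : StandardEtalePair A :=
    { f := X ^ 2 - C s
      monic_f := monic_X_pow_sub_C s two_ne_zero
      g := X
      cond := by
        refine ⟨C ((heu.unit⁻¹ : Aˣ) : A), 0, 1, ?_⟩
        rw [derivative_sub, derivative_X_pow, derivative_C, sub_zero, mul_zero, add_zero]
        have h1 : (C (2 : A) : A[X]) * C ((heu.unit⁻¹ : Aˣ) : A) = 1 := by
          rw [← C_mul]
          have : (2 : A) * ((heu.unit⁻¹ : Aˣ) : A) = 1 := heu.mul_val_inv
          rw [this, C_1]
        rw [Nat.cast_ofNat]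
        linear_combination X * h1 }
  exact Algebra.Etale.of_equiv P.equivAwayAdjoinRoot

/-- `neg` in terms of `AdjoinRoot`. -/
theorem neg_root {A : Type u} [CommRing A] (f : A[X]) :
    neg f (AdjoinRoot.root _) = - AdjoinRoot.root _ := AdjoinRoot.lift_root _

theorem root_sq {R : Type u} [CommRing R] (f : R) :
    (AdjoinRoot.root (X ^ 2 - C f : R[X])) ^ 2 = AdjoinRoot.of _ f := by
  have h := AdjoinRoot.eval₂_root (X ^ 2 - C f : R[X])
  simp only [eval₂_sub, eval₂_pow, eval₂_X, eval₂_C] at h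
  exact sub_eq_zero.1 h

variable {A : Type u} [CommRing A] (f : A[X]) {W P Z Y : Scheme.{u}} {s : W ⟶ W} {g : W ⟶ Z}
  (hq : IsInvQuot s g) (Φ : Z ⟶ Y) (v : Spec (CommRingCat.of A[X]) ⟶ Y) [IsOpenImmersion v]
  (p : W ⟶ P) (π : P ⟶ Y) (hgp : g ≫ Φ = p ≫ π) (σ : P ⟶ P) (hsp : s ≫ p = p ≫ σ)
  (j : Spec (CommRingCat.of (AdjoinRoot (X ^ 2 - C f : A[X][X]))) ⟶ P)
  (hj : IsPullback j (Spec.map (CommRingCat.ofHom (AdjoinRoot.of (X ^ 2 - C f : A[X][X])))) π v)
  (hjσ : j ≫ σ = Spec.map (CommRingCat.ofHom (neg f)) ≫ j)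

include hq hgp hsp hj hjσ in
/-- The situation in a chart `c : Spec C ⟶ X` whose composition with `Φ` factors through `v`. -/
theorem exists_data {C : CommRingCat.{u}} (c : Spec C ⟶ Z) [IsOpenImmersion c]
    (φ : CommRingCat.of A[X] ⟶ C) (hc : c ≫ Φ = Spec.map φ ≫ v) :
    ∃ (D : CommRingCat.{u}) (h : C ⟶ D) (sD : D ⟶ D)
      (ψ : CommRingCat.of (AdjoinRoot (Polynomial.X ^ 2 - Polynomial.C f : A[X][X])) ⟶ D) (d : Spec D ⟶ W),
      IsPullback d (Spec.map h) g c ∧ (∀ x, sD.hom (sD.hom x) = x) ∧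
      Function.Injective h.hom ∧ (∀ t : D, t ∈ Set.range h.hom ↔ sD.hom t = t) ∧
      Spec.map ψ ≫ j = d ≫ p ∧
      (∀ a, ψ.hom (AdjoinRoot.of _ a) = h.hom (φ.hom a)) ∧
      sD.hom (ψ.hom (AdjoinRoot.root _)) = - ψ.hom (AdjoinRoot.root _) := by
  have := hq.aff
  have hmj : IsOpenImmersion j := MorphismProperty.of_isPullback hj.flip inferInstance
  obtain ⟨D, h, d, hd⟩ := exists_chart g c
  obtain ⟨sD, h1, h2, h3, h4⟩ := chart hq c h d hd
  have hw : (d ≫ p) ≫ π = (Spec.map h ≫ Spec.map φ) ≫ v := by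
    rw [Category.assoc, ← hgp, reassoc_of% hd.w, hc, Category.assoc]
  obtain ⟨ψ, hψ⟩ := Spec.map_surjective (hj.lift (d ≫ p) (Spec.map h ≫ Spec.map φ) hw)
  have e1 : Spec.map ψ ≫ j = d ≫ p := by rw [hψ, hj.lift_fst]
  have e2 : Spec.map ψ ≫ Spec.map (CommRingCat.ofHom (AdjoinRoot.of _)) = Spec.map h ≫ Spec.map φ := by
    rw [hψ, hj.lift_snd]
  have e2' : CommRingCat.ofHom (AdjoinRoot.of _) ≫ ψ = φ ≫ h := by
    apply Spec.map_injective
    rw [Spec.map_comp, Spec.map_comp, e2]
  have e3 : ψ ≫ sD = CommRingCat.ofHom (neg f) ≫ ψ := by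
    apply Spec.map_injective
    rw [Spec.map_comp, Spec.map_comp, ← cancel_mono j, Category.assoc, Category.assoc, e1, ← hjσ,
      reassoc_of% e1, reassoc_of% h1, hsp]
  refine ⟨D, h, sD, ψ, d, hd, h2, h3, h4, e1, fun a => congrArg (fun f => f.hom a) e2', ?_⟩
  have := congrArg (fun f => f.hom (AdjoinRoot.root _)) e3
  refine this.trans ?_
  change ψ.hom (neg f (AdjoinRoot.root _)) = _
  rw [neg_root, map_neg]

include hq hgp hsp hj hjσ in
/-- Étaleness off the branch locus. -/
theorem etale_chart (h2 : IsUnit (2 : A)) [Etale p] {C : CommRingCat.{u}} (c : Spec C ⟶ Z) [IsOpenImmersion c]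
    (φ : CommRingCat.of A[X] ⟶ C) (hc : c ≫ Φ = Spec.map φ ≫ v) (hu : IsUnit (φ.hom f)) :
    φ.hom.Etale := by
  have hmj : IsOpenImmersion j := MorphismProperty.of_isPullback hj.flip inferInstance
  obtain ⟨D, h, sD, ψ, d, hd, hs, hinj, hfix, hψj, hψ1, hψ2⟩ :=
    exists_data f hq Φ v p π hgp σ hsp j hj hjσ c φ hc
  have hdo : IsOpenImmersion d := MorphismProperty.of_isPullback hd.flip inferInstance
  have h2C : IsUnit (2 : C) := by
    have := h2.map (φ.hom.comp (Polynomial.C : A →+* A[X]))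
    rwa [map_ofNat] at this
  have h2X : IsUnit (2 : A[X]) := by
    have := h2.map (Polynomial.C : A →+* A[X])
    rwa [map_ofNat] at this
  have hy : IsUnit (ψ.hom (AdjoinRoot.root _)) := by
    have e : ψ.hom (AdjoinRoot.root _) ^ 2 = h.hom (φ.hom f) := by
      rw [← map_pow, root_sq, hψ1]
    exact (isUnit_pow_iff two_ne_zero).1 (e ▸ hu.map h.hom)
  have hhe : h.hom.Etale := etale h.hom hinj sD.hom hfix h2C hs _ hy hψ2
  have hhs : Function.Surjective (Spec.map h) :=
    (isIntegral h.hom sD.hom hfix hs).comap_surjective hinj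
  -- `Spec ψ` is étale
  have h5 : Etale (Spec.map ψ ≫ j) := by rw [hψj]; infer_instance
  have h6 : Etale (Spec.map ψ) := Etale.of_comp _ j
  let E := AdjoinRoot (Polynomial.X ^ 2 - Polynomial.C f : A[X][X])
  let r : E := AdjoinRoot.root _
  let ψ' : CommRingCat.of (Localization.Away r) ⟶ D := CommRingCat.ofHom (IsLocalization.Away.lift r hy)
  let lo : CommRingCat.of E ⟶ CommRingCat.of (Localization.Away r) :=
    CommRingCat.ofHom (algebraMap E (Localization.Away r))
  have h7 : lo ≫ ψ' = ψ := by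
    apply CommRingCat.hom_ext
    refine RingHom.ext fun x => ?_
    exact IsLocalization.Away.lift_eq r hy x
  have h8 : IsOpenImmersion (Spec.map lo) := inferInstanceAs (IsOpenImmersion (Spec.map (CommRingCat.ofHom
    (algebraMap E (Localization.Away r)))))
  have h9 : Etale (Spec.map ψ') := by
    have : Etale (Spec.map ψ' ≫ Spec.map lo) := by rw [← Spec.map_comp, h7]; exact h6
    exact Etale.of_comp _ (Spec.map lo)
  have h10 : Etale (Spec.map (CommRingCat.ofHom (algebraMap A[X] (Localization.Away r)))) := by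
    rw [HasRingHomProperty.Spec_iff (P := @Etale)]
    exact (RingHom.etale_algebraMap (R := A[X]) (S := Localization.Away r)).2 (etale_away f h2X)
  have h11 : Spec.map h ≫ Spec.map φ = Spec.map ψ' ≫
      Spec.map (CommRingCat.ofHom (algebraMap A[X] (Localization.Away r))) := by
    rw [← Spec.map_comp, ← Spec.map_comp]
    congr 1
    apply CommRingCat.hom_ext
    refine RingHom.ext fun a => ?_
    change h.hom (φ.hom a) = ψ'.hom (algebraMap A[X] (Localization.Away r) a)
    rw [← hψ1 a, ← h7]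
    rfl
  have h12 : Etale (Spec.map h) := by
    rw [HasRingHomProperty.Spec_iff (P := @Etale)]
    exact hhe
  have h13 : Etale (Spec.map φ) :=
    etale_of_comp (Spec.map h) (Spec.map φ) h12 ⟨hhs⟩ (by rw [h11]; infer_instance)
  rwa [HasRingHomProperty.Spec_iff (P := @Etale)] at h13

theorem flat_of_invol {R C D : Type u} [CommRing R] [CommRing C] [CommRing D] (φ : R →+* C) (h : C →+* D)
    (hinj : Function.Injective h) (s : D →+* D) (hfix : ∀ d, d ∈ Set.range h ↔ s d = d) (hs : ∀ d, s (s d) = d)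
    (h2 : IsUnit (2 : R)) (hfl : (h.comp φ).Flat) : φ.Flat := by
  let _ : Algebra R C := φ.toAlgebra
  let _ : Algebra R D := (h.comp φ).toAlgebra
  have hfl' : Module.Flat R D := hfl
  obtain ⟨t, ht⟩ := h2.exists_left_inv
  have hsm : ∀ (r : R) (d : D), r • d = h (φ r) * d := fun _ _ => rfl
  have hsmC : ∀ (r : R) (d : C), r • d = φ r * d := fun _ _ => rfl
  have hsh : ∀ c : C, s (h c) = h c := fun c => (hfix _).1 ⟨c, rfl⟩
  let hl : C →ₗ[R] D :=
    { toFun := h
      map_add' := map_add h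
      map_smul' := fun r c => by simp [hsm, hsmC] }
  let el : D →ₗ[R] D :=
    { toFun := fun d => h (φ t) * (d + s d)
      map_add' := fun a b => by rw [map_add]; ring
      map_smul' := fun r d => by
        simp only [hsm, map_mul, hsh, RingHom.id_apply]
        ring }
  have her : ∀ d, el d ∈ LinearMap.range hl := by
    intro d
    obtain ⟨c, hc⟩ := (hfix (d + s d)).2 (by rw [map_add, hs, add_comm])
    exact ⟨φ t * c, by
      change h (φ t * c) = h (φ t) * (d + s d)
      rw [map_mul, hc]⟩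
  let rl : D →ₗ[R] C := (LinearEquiv.ofInjective hl hinj).symm.toLinearMap ∘ₗ el.codRestrict _ her
  refine Module.Flat.of_retract hl rl ?_
  refine LinearMap.ext fun c => ?_
  change (LinearEquiv.ofInjective hl hinj).symm _ = c
  rw [LinearEquiv.symm_apply_eq]
  apply Subtype.ext
  change h (φ t) * (h c + s (h c)) = h c
  rw [hsh]
  have : h (φ t) * 2 = 1 := by
    rw [← map_ofNat (h.comp φ) 2]
    change (h.comp φ) t * (h.comp φ) 2 = 1
    rw [← map_mul, ht, map_one]
  linear_combination (h c) * this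

include hq hgp hsp hj hjσ in
/-- Flatness of the charts of the quotient. -/
theorem flat_chart (h2 : IsUnit (2 : A)) [Flat p] {C : CommRingCat.{u}} (c : Spec C ⟶ Z) [IsOpenImmersion c]
    (φ : CommRingCat.of A[X] ⟶ C) (hc : c ≫ Φ = Spec.map φ ≫ v) : φ.hom.Flat := by
  have hmj : IsOpenImmersion j := MorphismProperty.of_isPullback hj.flip inferInstance
  obtain ⟨D, h, sD, ψ, d, hd, hs, hinj, hfix, hψj, hψ1, hψ2⟩ :=
    exists_data f hq Φ v p π hgp σ hsp j hj hjσ c φ hc
  have hdo : IsOpenImmersion d := MorphismProperty.of_isPullback hd.flip inferInstance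
  have h2X : IsUnit (2 : A[X]) := by
    have := h2.map (Polynomial.C : A →+* A[X])
    rwa [map_ofNat] at this
  refine flat_of_invol φ.hom h.hom hinj sD.hom hfix hs h2X ?_
  have h5 : Flat (Spec.map ψ ≫ j) := by rw [hψj]; infer_instance
  have h6 : Flat (Spec.map ψ) := MorphismProperty.of_postcomp (W := @Flat) (W' := @IsOpenImmersion) _ j hmj h5
  have h6' : ψ.hom.Flat := by rwa [HasRingHomProperty.Spec_iff (P := @Flat)] at h6
  have h7 : h.hom.comp φ.hom = ψ.hom.comp (AdjoinRoot.of (Polynomial.X ^ 2 - Polynomial.C f : A[X][X])) :=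
    RingHom.ext fun a => (hψ1 a).symm
  rw [h7]
  have h8 : Module.Free A[X] (AdjoinRoot (Polynomial.X ^ 2 - Polynomial.C f : A[X][X])) :=
    Module.Free.of_basis (AdjoinRoot.powerBasis' (monic_X_pow_sub_C f two_ne_zero)).basis
  have h9 : (AdjoinRoot.of (Polynomial.X ^ 2 - Polynomial.C f : A[X][X])).Flat :=
    RingHom.flat_algebraMap_iff.2 inferInstance
  exact RingHom.Flat.comp h9 h6'

end K950.HurwEt
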