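import Groth.Agent.CurvSt.K950.HurwEt
import Groth.Agent.Ega3B.ProjProper

/-!
# Simple covers lift over henselian discrete valuation rings (node LIFT of the plan of S16736)
-/

set_option autoImplicit false

universe u

open CategoryTheory CategoryTheory.Limits AlgebraicGeometry Polynomial IsLocalRing

namespace K950.HurwLift

open K760.Hurw K950.HurwRing K950.HurwEt

instance isOpenImmersion_v0 (R : Type u) [CommRing R] : IsOpenImmersion (v0 R) := by
  have := Groth.Agent.Sga4B.P1Hyper.isIso_w R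
  exact inferInstanceAs (IsOpenImmersion (Spec.map (CommRingCat.ofHom (Groth.Agent.Sga4B.P1Hyper.w R)) ≫ _))

instance isOpenImmersion_v1 (R : Type u) [CommRing R] : IsOpenImmersion (v1 R) := by
  have := Groth.Agent.Sga4B.P1Hyper.isIso_w R
  exact inferInstanceAs (IsOpenImmersion (Spec.map (CommRingCat.ofHom (Groth.Agent.Sga4B.P1Hyper.w R)) ≫ _))

theorem exists_v (R : Type u) [CommRing R] (x : CohB1.ProjSpace 1 R) :
    (∃ y, v0 R y = x) ∨ (∃ y, v1 R y = x) := by
  have := Groth.Agent.Sga4B.P1Hyper.isIso_w R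
  have hs : Function.Surjective (Spec.map (CommRingCat.ofHom (Groth.Agent.Sga4B.P1Hyper.w R))) :=
    (Scheme.homeoOfIso (asIso (Spec.map (CommRingCat.ofHom (Groth.Agent.Sga4B.P1Hyper.w R))))).surjective
  obtain ⟨i, y, hy⟩ := Groth.Agent.Sga5.ProjSmooth.exists_mem_chart 1 R x
  obtain ⟨z, rfl⟩ := hs y
  fin_cases i
  · exact Or.inl ⟨z, by rw [v0, Scheme.Hom.comp_apply]; exact hy⟩
  · exact Or.inr ⟨z, by rw [v1, Scheme.Hom.comp_apply]; exact hy⟩

theorem of_forall_exists {P : MorphismProperty Scheme.{u}} [IsZariskiLocalAtSource P] {X Y : Scheme.{u}}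
    (f : X ⟶ Y) (h : ∀ x : X, ∃ (Z : Scheme.{u}) (j : Z ⟶ X) (_ : IsOpenImmersion j) (y : Z), j y = x ∧ P (j ≫ f)) :
    P f := by
  choose Z j hj y hy hP using h
  let 𝒰 : X.OpenCover := Scheme.Cover.mkOfCovers X Z j (fun x => ⟨x, y x, hy x⟩) hj
  exact IsZariskiLocalAtSource.of_openCover 𝒰 (fun i => hP i)

theorem exists_preimage {P X Y Z : Scheme.{u}} {fst : P ⟶ X} {snd : P ⟶ Y} {f : X ⟶ Z} {g : Y ⟶ Z}
    (h : IsPullback fst snd f g) (x : X) (y : Y) (hxy : f x = g y) : ∃ p : P, fst p = x ∧ snd p = y := by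
  obtain ⟨z, h1, h2⟩ := Scheme.Pullback.exists_preimage_pullback x y hxy
  refine ⟨h.isoPullback.inv z, ?_, ?_⟩
  · rw [← Scheme.Hom.comp_apply, h.isoPullback_inv_fst, h1]
  · rw [← Scheme.Hom.comp_apply, h.isoPullback_inv_snd, h2]

theorem flat_adjoinRoot {R : Type u} [CommRing R] (f : R) :
    Flat (Spec.map (CommRingCat.ofHom (AdjoinRoot.of (Polynomial.X ^ 2 - Polynomial.C f : R[X])))) := by
  have h8 : Module.Free R (AdjoinRoot (Polynomial.X ^ 2 - Polynomial.C f : R[X])) :=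
    Module.Free.of_basis (AdjoinRoot.powerBasis' (monic_X_pow_sub_C f two_ne_zero)).basis
  rw [HasRingHomProperty.Spec_iff (P := @Flat)]
  exact RingHom.flat_algebraMap_iff.2 inferInstance

theorem flat_of_isDouble {A : Type u} [CommRing A] (f : A[X]) {P : Scheme.{u}} {π : P ⟶ CohB1.ProjSpace 1 A}
    {σ : P ⟶ P} (h : IsDouble f π σ) : Flat π := by
  refine of_forall_exists (P := @Flat) π fun x => ?_
  rcases exists_v A (π x) with ⟨y, hy⟩ | ⟨y, hy⟩
  · obtain ⟨j, hj, -⟩ := h.chart0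
    obtain ⟨z, hz, -⟩ := exists_preimage hj x y hy.symm
    refine ⟨_, j, MorphismProperty.of_isPullback hj.flip inferInstance, z, hz, ?_⟩
    rw [hj.w]
    have := flat_adjoinRoot f
    infer_instance
  · obtain ⟨j, hj, -⟩ := h.chart1
    obtain ⟨z, hz, -⟩ := exists_preimage hj x y hy.symm
    refine ⟨_, j, MorphismProperty.of_isPullback hj.flip inferInstance, z, hz, ?_⟩
    rw [hj.w]
    have := flat_adjoinRoot f.reverse
    infer_instance

/-- The chart of a base change. -/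
theorem exists_theta {X Y : Scheme.{u}} {Φ : X ⟶ Y} {R C : CommRingCat.{u}} {v : Spec R ⟶ Y} {φ : R ⟶ C}
    {c : Spec C ⟶ X} (hc : IsPullback c (Spec.map φ) Φ v) {R' B : CommRingCat.{u}} {τ : R ⟶ R'} {β : R' ⟶ B}
    {b : Spec B ⟶ X} (hb : IsPullback b (Spec.map β) Φ (Spec.map τ ≫ v)) :
    ∃ θ : C ⟶ B, Spec.map θ ≫ c = b ∧ IsPushout τ φ β θ := by
  obtain ⟨θ, hθ⟩ := Spec.map_surjective (hc.lift b (Spec.map β ≫ Spec.map τ) (by rw [hb.w, Category.assoc]))
  have e1 : Spec.map θ ≫ c = b := by rw [hθ, hc.lift_fst]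
  have e2 : Spec.map θ ≫ Spec.map φ = Spec.map β ≫ Spec.map τ := by rw [hθ, hc.lift_snd]
  refine ⟨θ, e1, ?_⟩
  have h1 : IsPullback (Spec.map θ) (Spec.map β) (Spec.map φ) (Spec.map τ) :=
    IsPullback.of_right (by rw [e1]; exact hb) e2 hc
  exact (isPushout_of_spec h1).flip

/-- The residue field of a henselian ring with a `k`-point. -/
theorem exists_residue {A k : Type u} [CommRing A] [IsLocalRing A] [Field k] (ρ : A →+* k)
    (hρ : Function.Surjective ρ) : ∃ e : ResidueField A ≃+* k, e.toRingHom.comp (residue A) = ρ := by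
  have : IsLocalHom ρ := Function.Surjective.isLocalHom ρ hρ
  let l := ResidueField.lift ρ
  have hl : l.comp (residue A) = ρ := ResidueField.lift_comp_residue ρ
  have hb : Function.Bijective l := by
    refine ⟨l.injective, fun x => ?_⟩
    obtain ⟨a, rfl⟩ := hρ x
    exact ⟨residue A a, congrArg (fun f => f a) hl⟩
  exact ⟨RingEquiv.ofBijective l hb, hl⟩

theorem exists_numbers (r : ℕ) : ∃ m n : ℕ, 1 ≤ n ∧ r + n = 2 * m := by
  rcases Nat.even_or_odd' r with ⟨c, rfl | rfl⟩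
  · exact ⟨c + 1, 2, by omega, by omega⟩
  · exact ⟨c + 1, 1, by omega, by omega⟩

theorem exists_points {k : Type u} [Field k] [Infinite k] {r : ℕ} (b : Fin r → k) (n : ℕ) :
    ∃ c : Fin n → k, Function.Injective c ∧ ∀ i j, b i ≠ c j := by
  have h1 : (Set.range b)ᶜ.Infinite := (Set.finite_range b).infinite_compl
  have := h1.to_subtype
  let e := Infinite.natEmbedding ↥(Set.range b)ᶜ
  refine ⟨fun i => (e i : k), ?_, ?_⟩
  · intro i j hij
    exact Fin.ext (e.injective (Subtype.ext hij))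
  · intro i j hij
    exact (e j).2 ⟨i, hij⟩

theorem main (h1 : P1BCStmt.{u}) (h2 : DoubleStmt.{u}) (h3 : DoubleBCStmt.{u}) (h4 : W0Stmt.{u})
    (h5 : InvolLiftStmt.{u}) (h6 : QuotStmt.{u}) (h7 : GenStmt.{u}) : LiftStmt.{u} := by
  intro k _ _ _ X₁ q _ _ _ hX F r b hFq hF A _ _ _ _ _ ρ β hβ
  have hFfin : IsFinite F := hF.fin
  have hρ : Function.Surjective ρ.toRingHom := fun x => ⟨algebraMap k A x, ρ.commutes x⟩
  have h2A : IsUnit (2 : A) := by
    have : IsUnit (2 : k) := isUnit_iff_ne_zero.2 two_ne_zero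
    have := this.map (algebraMap k A)
    rwa [map_ofNat] at this
  -- the chart of `X`
  obtain ⟨C₀, φ₀, c₀, hc₀⟩ := exists_chart F (v0 k)
  let _ : Algebra k[X] C₀ := φ₀.hom.toAlgebra
  have hS : IsSimp k b C₀ := hF.simp0 C₀ c₀ hc₀
  -- the branch points
  obtain ⟨m, n, hn, hm⟩ := exists_numbers r
  obtain ⟨c, hcinj, hbc⟩ := exists_points b n
  let γ : Fin (r + n) → A := Fin.append β (fun i => algebraMap k A (c i))
  have hργ : (fun j => ρ (γ j)) = Fin.append b c := by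
    funext j
    refine Fin.addCases (fun i => ?_) (fun i => ?_) j
    · simp only [γ, Fin.append_left, hβ]
    · simp only [γ, Fin.append_right]
      exact ρ.commutes _
  have hγinj : Function.Injective (fun j => ρ (γ j)) := by
    rw [hργ, Fin.append_injective_iff]
    exact ⟨hS.inj, hcinj, hbc⟩
  let f : A[X] := ∏ j, (X - C (γ j))
  have hfm : f.Monic := monic_prod_of_monic _ _ fun j _ => monic_X_sub_C _
  have hfd : f.natDegree = 2 * m := by
    rw [natDegree_prod_of_monic _ _ fun j _ => monic_X_sub_C _]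
    simp [hm]
  have hf₀ : f.map ρ.toRingHom = ∏ j, (X - C (ρ (γ j))) := by
    simp [f, Polynomial.map_prod]
  have hf₀sq : Squarefree (f.map ρ.toRingHom) := by
    rw [hf₀]
    exact (separable_prod_X_sub_C_iff.2 hγinj).squarefree
  have hf₀root : ∀ j, (f.map ρ.toRingHom).IsRoot (ρ (γ j)) := fun j => by
    rw [hf₀, IsRoot, eval_prod]
    exact Finset.prod_eq_zero (Finset.mem_univ j) (by simp)
  -- the double cover
  obtain ⟨P, π, σ, hD⟩ := h2 A f m hfm hfd
  have hπfin : IsFinite π := hD.fin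
  have hπfl : Flat π := flat_of_isDouble f hD
  have htp : IsProper (CohB1.ProjSpace.toSpec 1 A) := Groth.Agent.Ega3B.ProjProper.isProper_toSpec 1 A
  have hj₀ : IsPullback (pullback.fst (π ≫ CohB1.ProjSpace.toSpec 1 A) (Spec.map (CommRingCat.ofHom ρ.toRingHom)))
      (pullback.snd _ _) _ _ := IsPullback.of_hasPullback _ _
  obtain ⟨π₀, σ₀, hD₀, hπ₀, hσ₀, hnn⟩ := h3 A f hfm π σ hD k ρ.toRingHom _ _ hj₀
  set j := pullback.fst (π ≫ CohB1.ProjSpace.toSpec 1 A) (Spec.map (CommRingCat.ofHom ρ.toRingHom)) with hjdef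
  set q' := pullback.snd (π ≫ CohB1.ProjSpace.toSpec 1 A) (Spec.map (CommRingCat.ofHom ρ.toRingHom)) with hqdef
  obtain ⟨n₁, hn1, hn2, hn3⟩ := h1 A k ρ.toRingHom
  have hπn : π₀ ≫ n₁ = j ≫ π := hnn n₁ hn2.w.symm hn3.w.symm
  have hjπ : IsPullback j π₀ π n₁ := IsPullback.of_bot (by rw [hπ₀]; exact hj₀) hπn.symm hn1
  -- `W₀`
  obtain ⟨W₀, p₀, s₀, g₀, hp₀f, hp₀e, hIQ₀, hsp₀, hpF⟩ := h4 k X₁ q hX F r b hFq hF (f.map ρ.toRingHom) m
    (hfm.map _) (by rw [hfm.natDegree_map, hfd]) hf₀sq (fun i => by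
      have := hf₀root (Fin.castAdd n i)
      rwa [show ρ (γ (Fin.castAdd n i)) = b i by simp [γ, Fin.append_left, hβ]] at this)
    ⟨c ⟨0, hn⟩, by
      have := hf₀root (Fin.natAdd r ⟨0, hn⟩)
      rwa [show ρ (γ (Fin.natAdd r ⟨0, hn⟩)) = c ⟨0, hn⟩ by
        simp only [γ, Fin.append_right]; exact ρ.commutes _] at this,
      fun i => (hbc i _).symm⟩ _ π₀ σ₀ hD₀
  -- lift
  obtain ⟨e, he⟩ := exists_residue ρ.toRingHom hρ
  let se : Spec (CommRingCat.of k) ≅ Spec (CommRingCat.of (ResidueField A)) :=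
    Scheme.Spec.mapIso (RingEquiv.toCommRingCatIso e).op
  have hse : se.hom ≫ Spec.map (CommRingCat.ofHom (residue A)) = Spec.map (CommRingCat.ofHom ρ.toRingHom) := by
    change Spec.map (CommRingCat.ofHom e.toRingHom) ≫ _ = _
    rw [← Spec.map_comp, ← CommRingCat.ofHom_comp, he]
  have hjr : IsPullback j (q' ≫ se.hom) (π ≫ CohB1.ProjSpace.toSpec 1 A)
      (Spec.map (CommRingCat.ofHom (residue A))) :=
    hj₀.of_iso (Iso.refl _) (Iso.refl _) se (Iso.refl _) (by simp [hjdef]) (by simp [hqdef]) (by simp)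
      (by simp [hse])
  obtain ⟨W, p, s, i, hpf, hpe, hss, hsp, hi, hsi⟩ := h5 A (π ≫ CohB1.ProjSpace.toSpec 1 A) σ hD.invol
    (by rw [← Category.assoc, hD.over]) j (q' ≫ se.hom) hjr σ₀ hD₀.invol hσ₀
    (by rw [← hπ₀, ← Category.assoc, ← Category.assoc, hD₀.over]) p₀ s₀ hIQ₀.invol hsp₀
  -- quotient
  have htsm : SmoothOfRelativeDimension 1 (CohB1.ProjSpace.toSpec 1 A) :=
    Groth.Agent.Sga5.ProjSmooth.smooth_toSpec 1 A
  have htsm' : Smooth (CohB1.ProjSpace.toSpec 1 A) := SmoothOfRelativeDimension.smooth 1 _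
  have htfl : Flat ((p ≫ π) ≫ CohB1.ProjSpace.toSpec 1 A) := by
    have : Flat p := inferInstance
    have : Flat (CohB1.ProjSpace.toSpec 1 A) := inferInstance
    infer_instance
  obtain ⟨𝒳, g, Φ, ι, hIQ, hgΦ, hΦf, hΦs, hig, hι⟩ := h6 A h2A (CohB1.ProjSpace.toSpec 1 A) (p ≫ π) s hss
    (by rw [← Category.assoc, hsp, Category.assoc, hD.over]) k ρ.toRingHom hρ
    (CohB1.ProjSpace.toSpec 1 k) n₁ hn1 i (p₀ ≫ π₀) (hi.paste_vert hjπ) s₀ hsi g₀ F hpF.symm hIQ₀
    (by rw [hFq]; infer_instance)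
  refine ⟨𝒳, Φ ≫ CohB1.ProjSpace.toSpec 1 A, ι, Φ, hΦf, rfl, hΦs, ?_, ?_⟩
  · have := hι.paste_vert hn1
    rwa [hFq] at this
  -- the generic fibre
  obtain ⟨C', φ, c', hc'⟩ := exists_chart Φ (v0 A)
  have hc'o : IsOpenImmersion c' := MorphismProperty.of_isPullback hc'.flip inferInstance
  obtain ⟨j0, hj0, hj0σ⟩ := hD.chart0
  let _ : Algebra A[X] C' := φ.hom.toAlgebra
  have hflat : φ.hom.Flat := flat_chart f hIQ Φ (v0 A) p π hgΦ σ hsp j0 hj0 hj0σ h2A c' φ hc'.w
  have hflat' : Module.Flat A[X] C' := hflat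
  have hfin : Module.Finite A[X] C' := by
    have : IsFinite (Spec.map φ) := MorphismProperty.of_isPullback hc' hΦf
    exact (IsFinite.SpecMap_iff (f := φ)).1 this
  have het : Algebra.Etale A[X] (Localization.Away
        (algebraMap A[X] C' (∏ j, (Polynomial.X - Polynomial.C (γ j))))) := by
    let L := Localization.Away (algebraMap A[X] C' (∏ j, (Polynomial.X - Polynomial.C (γ j))))
    let lo : C' ⟶ CommRingCat.of L := CommRingCat.ofHom (algebraMap C' L)
    have hlo : IsOpenImmersion (Spec.map lo) := inferInstanceAs (IsOpenImmersion (Spec.map (CommRingCat.ofHom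
      (algebraMap C' L))))
    have h8 := etale_chart f hIQ Φ (v0 A) p π hgΦ σ hsp j0 hj0 hj0σ h2A (Spec.map lo ≫ c') (φ ≫ lo)
      (by rw [Category.assoc, hc'.w, Spec.map_comp, Category.assoc])
      (IsLocalization.Away.algebraMap_isUnit (algebraMap A[X] C' (∏ j, (Polynomial.X - Polynomial.C (γ j)))))
    have h9 : (φ ≫ lo).hom = algebraMap A[X] L := (IsScalarTower.algebraMap_eq A[X] C' L).symm
    rw [h9] at h8
    exact RingHom.etale_algebraMap.1 h8
  obtain ⟨θ₀, hθ₀1, hθ₀2⟩ := exists_theta hc' (b := c₀ ≫ ι) (β := φ₀)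
    (τ := CommRingCat.ofHom (Polynomial.mapRingHom ρ.toRingHom)) (by
      have := hc₀.paste_horiz hι
      rwa [hn2.w.symm] at this)
  have hmaps : Function.Surjective (CommRingCat.ofHom (Polynomial.mapRingHom ρ.toRingHom)).hom :=
    Polynomial.map_surjective _ hρ
  obtain ⟨hθs, hθk⟩ := Groth.Agent.Models.SpecFib.surj_ker_of_isPushout hθ₀2.flip hmaps
  intro K _ _ _ B _ _ jB hjB
  obtain ⟨θ, hθ1, hθ2⟩ := exists_theta hc' hjB
  exact h7 k A ρ.toRingHom hρ C' C₀ θ₀.hom hθs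
    (fun a => (congrArg (fun t => t.hom a) hθ₀2.w).symm) hθk r (r + n) β γ hγinj
    (fun i => ⟨Fin.castAdd n i, by simp [γ, Fin.append_left]⟩)
    (by
      have : (fun i => ρ.toRingHom (β i)) = b := funext hβ
      rw [this]
      exact hS) het K B θ.hom hθ2

end K950.HurwLift
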